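import Groth.Prelude.Def_LieHopf
import Groth.Prelude.Def_Lie2
import Groth.Prelude.Def_Dyn
import Mathlib.RingTheory.Bialgebra.Convolution
import Mathlib.RingTheory.HopfAlgebra.Convolution
import Mathlib.Tactic.NoncommRing

/-!
Products of tangent points at the identity of an affine group.
-/

set_option autoImplicit false
universe u

open TensorProduct WithConv

namespace Groth.Agent.Lie31

variable {k : Type u} [CommRing k] {A : Type u} [CommRing A] [HopfAlgebra k A]
  {R : Type u} [CommRing R] [Algebra k R]

/-- An algebra map as an element of the convolution ring. -/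
noncomputable abbrev lin (f : A →ₐ[k] R) : WithConv (A →ₗ[k] R) := toConv f.toLinearMap

theorem lin_conv3 (g h l : A →ₐ[k] R) : lin (Dyn.conv3 k A g h l) = lin g * lin h * lin l := by
  have key : toConv (Dyn.conv3 k A g h l) = toConv g * toConv h * toConv l := by
    refine WithConv.ofConv_injective (AlgHom.ext fun a => ?_)
    simp only [AlgHom.convMul_apply, WithConv.ofConv_toConv, Dyn.conv3, AlgHom.comp_apply]
    simp only [Bialgebra.comulAlgHom_apply]
    generalize CoalgebraStruct.comul (R := k) a = z
    induction z with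
    | zero => simp
    | add x y hx hy => simp only [map_add] at hx hy ⊢; simp only [hx, hy]
    | tmul p q =>
      simp [AlgHom.convMul_apply]
      congr 1
      generalize CoalgebraStruct.comul (R := k) p = z
      induction z with
      | zero => simp
      | add x y hx hy => simp only [map_add, hx, hy]
      | tmul r s => simp
  have := congrArg (fun f : WithConv (A →ₐ[k] R) => lin f.ofConv) key
  simpa only [lin, WithConv.ofConv_toConv, AlgHom.toLinearMap_convMul] using this

theorem lin_one : lin (R := R) ((Algebra.ofId k R).comp (Bialgebra.counitAlgHom k A)) = 1 := rfl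

theorem lin_mul_antipode (f : A →ₐ[k] R) :
    lin f * lin (f.comp (HopfAlgebra.antipodeAlgHom k A)) = 1 := by
  have h := LinearMap.algHom_comp_convMul_distrib f (toConv LinearMap.id)
    (toConv (HopfAlgebra.antipode k (A := A)))
  rw [LinearMap.id_mul_antipode] at h
  apply WithConv.ofConv_injective
  refine Eq.trans (h.symm.trans ?_) rfl
  ext a
  simp [LinearMap.convOne_def]

/-- An ε-derivation with values in `R`, in the convolution ring. -/
noncomputable def der (D : LieHopf.Lie k A) : WithConv (A →ₗ[k] R) :=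
  toConv (Algebra.linearMap k R ∘ₗ LieHopf.dlin D)

theorem lin_ptOfLie (D : LieHopf.Lie k A) (t : R) (ht : t * t = 0) :
    lin (LieHopf.ptOfLie D R t ht) = 1 + t • der D := by
  apply WithConv.ofConv_injective
  ext a
  show algebraMap k R (Bialgebra.counitAlgHom k A a) + algebraMap k R (LieHopf.dlin D a) * t =
    algebraMap k R (Bialgebra.counitAlgHom k A a) + t • algebraMap k R (LieHopf.dlin D a)
  rw [smul_eq_mul, mul_comm t]

theorem lin_ptOfLie_antipode (D : LieHopf.Lie k A) (t : R) (ht : t * t = 0) :
    lin ((LieHopf.ptOfLie D R t ht).comp (HopfAlgebra.antipodeAlgHom k A)) = 1 - t • der D := by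
  refine (left_inv_eq_right_inv ?_ (lin_mul_antipode _)).symm
  rw [lin_ptOfLie, sub_mul, one_mul, mul_add, mul_one, smul_mul_smul_comm, ht, zero_smul, add_zero,
    add_sub_cancel_right]

theorem commutator_apply (D E : LieHopf.Lie k A) (t t' : R) (ht : t * t = 0) (ht' : t' * t' = 0) (a : A) :
    Dyn.conv3 k A
        (Dyn.conv3 k A (LieHopf.ptOfLie D R t ht) (LieHopf.ptOfLie E R t' ht')
          ((LieHopf.ptOfLie D R t ht).comp (HopfAlgebra.antipodeAlgHom k A)))
        ((LieHopf.ptOfLie E R t' ht').comp (HopfAlgebra.antipodeAlgHom k A))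
        ((Algebra.ofId k R).comp (Bialgebra.counitAlgHom k A)) a =
      algebraMap k R (Bialgebra.counitAlgHom k A a) +
        (t * t') • ((der D * der E : WithConv (A →ₗ[k] R)) a - (der E * der D : WithConv (A →ₗ[k] R)) a) := by
  have h : lin (Dyn.conv3 k A
        (Dyn.conv3 k A (LieHopf.ptOfLie D R t ht) (LieHopf.ptOfLie E R t' ht')
          ((LieHopf.ptOfLie D R t ht).comp (HopfAlgebra.antipodeAlgHom k A)))
        ((LieHopf.ptOfLie E R t' ht').comp (HopfAlgebra.antipodeAlgHom k A))
        ((Algebra.ofId k R).comp (Bialgebra.counitAlgHom k A))) =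
      1 + (t * t') • (der D * der E - der E * der D) := by
    rw [lin_conv3, lin_conv3, lin_ptOfLie_antipode, lin_ptOfLie_antipode, lin_one, lin_ptOfLie, lin_ptOfLie, mul_one]
    simp only [sub_mul, mul_sub, add_mul, mul_add, one_mul, mul_one, smul_mul_smul_comm, mul_assoc,
      mul_smul_comm, smul_mul_assoc, smul_smul, smul_sub, smul_add]
    have h0 : t * (t * t') = 0 := by rw [← mul_assoc, ht, zero_mul]
    simp only [ht, ht', mul_comm t' t, mul_left_comm t' t, h0, mul_zero, zero_smul]
    abel
  exact congrArg (fun f : WithConv (A →ₗ[k] R) => f a) h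

end Groth.Agent.Lie31

namespace Groth.Agent.Lie31

variable {k : Type u} [CommRing k] {A : Type u} [CommRing A] [HopfAlgebra k A]
  {R : Type u} [CommRing R] [Algebra k R]

theorem der_mul_der (D E : LieHopf.Lie k A) (a : A) :
    (der D * der E : WithConv (A →ₗ[k] R)) a =
      algebraMap k R (LieHopf.conv (LieHopf.dlin D) (LieHopf.dlin E) a) := by
  rw [LinearMap.convMul_apply]
  show _ = algebraMap k R (LinearMap.mul' k k
    (TensorProduct.map (LieHopf.dlin D) (LieHopf.dlin E) (CoalgebraStruct.comul a)))
  generalize CoalgebraStruct.comul (R := k) a = z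
  induction z with
  | zero => simp
  | add x y hx hy => simp only [map_add, hx, hy]
  | tmul r s => simp [der]

theorem snd_mul_apply (φ ψ : LieHopf.LiePts k A) (a : A) :
    TrivSqZeroExt.snd (Dyn.conv3 k A φ.1 ψ.1 ((Algebra.ofId k (DualNumber k)).comp (Bialgebra.counitAlgHom k A)) a) =
      LieHopf.LiePts.tangent k A φ a + LieHopf.LiePts.tangent k A ψ a := by
  have h := congrArg (fun f : WithConv (A →ₗ[k] DualNumber k) => f a)
    (lin_conv3 φ.1 ψ.1 ((Algebra.ofId k (DualNumber k)).comp (Bialgebra.counitAlgHom k A)))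
  simp only [lin_one, mul_one] at h
  let 𝓡 := Coalgebra.Repr.arbitrary k a
  rw [𝓡.convMul_apply] at h
  change Dyn.conv3 k A φ.1 ψ.1 ((Algebra.ofId k (DualNumber k)).comp (Bialgebra.counitAlgHom k A)) a = _ at h
  rw [h, TrivSqZeroExt.snd_sum]
  simp only [TrivSqZeroExt.snd_mul, AlgHom.toLinearMap_apply, φ.2, ψ.2, Bialgebra.counitAlgHom_apply,
    Finset.sum_add_distrib, op_smul_eq_smul, LieHopf.LiePts.tangent]
  have hr : ∑ x ∈ 𝓡.index, Coalgebra.counit (R := k) (𝓡.right x) • 𝓡.left x = a := by
    simpa only [map_sum, TensorProduct.lift.tmul, LinearMap.flip_apply, LinearMap.lsmul_apply, one_smul]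
      using congr(TensorProduct.lift (LinearMap.lsmul k A).flip $(Coalgebra.sum_tmul_counit_eq (R := k) 𝓡))
  let sφ : A →ₗ[k] k := (TrivSqZeroExt.sndHom k k) ∘ₗ φ.1.toLinearMap
  let sψ : A →ₗ[k] k := (TrivSqZeroExt.sndHom k k) ∘ₗ ψ.1.toLinearMap
  have e1 := congrArg sψ (Coalgebra.sum_counit_smul 𝓡)
  have e2 := congrArg sφ hr
  simp only [map_sum, map_smul] at e1 e2
  exact (congrArg₂ (· + ·) e1 e2).trans (add_comm _ _)

end Groth.Agent.Lie31
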